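import Mathlib
import Cfsg.Agent.H756.RIM.Bridge
import Cfsg.Agent.H37.NX.Top
import Cfsg.Agent.H37.NX.TOne
import Cfsg.Agent.H37.NW.TThree
import Cfsg.Agent.H586.GW.Cen

/-!
# S4816: an invariant character and `NBall` (helper880)

* `bad_central`: `Z` central in `Q`, `Q / Z ≅ S` simple, all irreducible characters of `Q` over `l` of `p'`-degree:
  contradiction with `NBall p S` and Ito-Michler;
* `bad_triple`: the same for an invariant irreducible character of a normal subgroup.
-/

set_option autoImplicit false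
set_option linter.unusedSectionVars false
set_option linter.style.haveILetI false

open Cfsg

namespace Cfsg.Agent.H880.RIM

open Cfsg.Agent.Characters.Core Cfsg.Agent.Characters.Clifford Cfsg.Agent.H672
open Cfsg.Agent.H595.Triple Cfsg.Agent.H595.Central
open Cfsg.Agent.H672.RM (over_lin_iff)
open Cfsg.Agent.H586.GW (RelP exists_triple)
open Cfsg.Agent.H665.RIM (NB NBall)
open Cfsg.Agent.H37.NX (IM)
open scoped commutatorElement

universe u

/-- Ito-Michler for simple groups. -/
theorem exists_of_IM {p : ℕ} [hp : Fact p.Prime] (hIM : IM.{u} p) {S : Type u} [Group S] [Finite S] [IsSimpleGroup S]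
    (na : commutator S = ⊤) (hd : p ∣ Nat.card S) : ∃ χ : S → ℂ, IsIrrCharacter S χ ∧ p ∣ charDegree χ := by
  by_contra hcon
  push Not at hcon
  obtain ⟨P, hP⟩ := hIM hcon
  rcases hP.eq_bot_or_eq_top with h | h
  · have h1 : Nat.card P = 1 := by
      rw [h]; exact Subgroup.card_bot
    have h2 := P.dvd_card_of_dvd_card hd
    rw [h1] at h2
    exact hp.out.one_lt.ne' (Nat.dvd_one.1 h2)
  · have h1 : IsPGroup p S := by
      have h2 := P.isPGroup'
      change IsPGroup p (P : Subgroup S) at h2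
      rw [h] at h2
      exact h2.of_equiv Subgroup.topEquiv
    haveI := h1.isNilpotent
    have h2 : ¬ (commutator S = ⊤) := by
      intro h3
      have h4 : Group.IsSolvable S := inferInstance
      exact (Group.IsSolvable.commutator_lt_top_of_nontrivial S).ne h3
    exact h2 na

theorem bad_central {p : ℕ} [hp : Fact p.Prime] {Q : Type u} [Group Q] [Finite Q] (Z : Subgroup Q)
    (hZ : Z ≤ Subgroup.center Q) (l : Z →* ℂˣ) (hrel : RelP p Z.subtype (lf l)) {S : Type u} [Group S] [Finite S]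
    [IsSimpleGroup S] (na : commutator S = ⊤) (hd : p ∣ Nat.card S) (f : Q →* S) (hf : Function.Surjective f)
    (hker : f.ker = Z) (hNB : NBall.{u} p S) (hIM : IM.{u} p) : False := by
  classical
  let E : Subgroup Q := commutator Q
  haveI hEn : E.Normal := inferInstance
  have hEf : E.map f = ⊤ := by
    change (commutator Q).map f = ⊤
    rw [commutator_def, Subgroup.map_commutator, Subgroup.map_top_of_surjective f hf, ← commutator_def, na]
  have hQ : ∀ x : Q, ∃ e ∈ E, ∃ z ∈ Z, x = e * z := by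
    intro x
    have h1 : f x ∈ E.map f := by rw [hEf]; trivial
    obtain ⟨e, he, hex⟩ := h1
    refine ⟨e, he, e⁻¹ * x, ?_, by group⟩
    rw [← hker, MonoidHom.mem_ker, map_mul, map_inv, hex, inv_mul_cancel]
  have hEE : ⁅E, E⁆ = E := by
    apply le_antisymm (Subgroup.commutator_le_self E)
    change ⁅(⊤ : Subgroup Q), (⊤ : Subgroup Q)⁆ ≤ ⁅E, E⁆
    rw [Subgroup.commutator_le]
    intro x _ y _
    obtain ⟨e, he, z, hz, rfl⟩ := hQ x
    obtain ⟨e', he', z', hz', rfl⟩ := hQ y
    have c1 := fun g => Subgroup.mem_center_iff.1 (hZ hz) g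
    have c2 := fun g => Subgroup.mem_center_iff.1 (hZ hz') g
    have h1 : ⁅e * z, e' * z'⁆ = ⁅e, e'⁆ := by
      rw [commutatorElement_def, commutatorElement_def]
      calc e * z * (e' * z') * (e * z)⁻¹ * (e' * z')⁻¹
          = e * (z * (e' * z')) * z⁻¹ * e⁻¹ * (z'⁻¹ * e'⁻¹) := by group
        _ = e * (e' * z' * z) * z⁻¹ * e⁻¹ * (z'⁻¹ * e'⁻¹) := by rw [c1]
        _ = e * e' * (z' * e⁻¹) * z'⁻¹ * e'⁻¹ := by group
        _ = e * e' * (e⁻¹ * z') * z'⁻¹ * e'⁻¹ := by rw [c2]
        _ = _ := by group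
    rw [h1]
    exact Subgroup.commutator_mem_commutator he he'
  have hperf : commutator E = ⊤ := by
    apply Subgroup.map_injective E.subtype_injective
    rw [commutator_def, Subgroup.map_commutator, ← MonoidHom.range_eq_map, Subgroup.range_subtype, hEE]
  let π : E →* S := f.comp E.subtype
  have hπ : Function.Surjective π := by
    intro s
    have h1 : s ∈ E.map f := by rw [hEf]; trivial
    obtain ⟨e, he, rfl⟩ := h1
    exact ⟨⟨e, he⟩, rfl⟩
  have hπZ : ∀ x : π.ker, ((x : E) : Q) ∈ Z := by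
    intro x
    rw [← hker]
    exact x.2
  have hπk : π.ker ≤ Subgroup.center E := by
    intro x hx
    rw [Subgroup.mem_center_iff]
    intro y
    exact Subtype.ext (Subgroup.mem_center_iff.1 (hZ (hπZ ⟨x, hx⟩)) (y : Q))
  let j : π.ker →* Z :=
    { toFun := fun x => ⟨x, hπZ x⟩
      map_one' := rfl
      map_mul' := fun _ _ => rfl }
  let μ : π.ker →* ℂˣ := l.comp j
  have hμ : ∀ x, μ x = l (j x) := fun _ => rfl
  -- a character of `E` over `μ`
  obtain ⟨θ, hθ, hθμ, hθp⟩ : ∃ χ : E → ℂ, IsIrrCharacter E χ ∧ (∀ z : π.ker, χ z = χ 1 * μ z) ∧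
      p ∣ charDegree χ := by
    have h0 : μ.ker.index ≠ 0 := Subgroup.index_ne_zero_of_finite
    by_cases h1 : μ.ker.index = 1
    · obtain ⟨χ, hχ, hχp⟩ := exists_of_IM hIM na hd
      refine ⟨χ ∘ π, isIrr_comp π hπ hχ, fun z => ?_, ?_⟩
      · have h2 : μ z = 1 := by
          rw [Subgroup.index_eq_one] at h1
          have h3 : z ∈ μ.ker := by rw [h1]; trivial
          exact h3
        have h3 : π z = 1 := z.2
        rw [h2, Function.comp_apply, Function.comp_apply, h3, map_one, Units.val_one, mul_one]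
      · have h3 : charDegree (χ ∘ π) = charDegree χ := by
          rw [Blocks.Basic.charDegree_def, Blocks.Basic.charDegree_def, Function.comp, map_one]
        rwa [h3]
    · have hpm : ¬ p ∣ μ.ker.index := by
        intro hdv
        obtain ⟨ν, b, hb, hν⟩ := Cfsg.Agent.H37.NX.exists_nu hZ hrel
        have hx : ∀ x, μ x ^ b = 1 := by
          intro x
          have h2 := hν (j x)
          have h3 : ν (j x : Q) = 1 :=
            MonoidHom.mem_ker.1 (Abelianization.commutator_subset_ker ν (x : E).2)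
          rw [h3, inv_one, mul_one] at h2
          exact h2
        rw [Subgroup.index_ker] at hdv
        haveI : Finite μ.range := Finite.of_surjective _ μ.rangeRestrict_surjective
        obtain ⟨y, hy⟩ := exists_prime_orderOf_dvd_card' (G := μ.range) p hdv
        obtain ⟨x, hxy⟩ := y.2
        have h2 : y ^ b = 1 := by
          apply Subtype.ext
          rw [Subgroup.coe_pow, ← hxy, hx]
          rfl
        have h3 := orderOf_dvd_of_pow_eq_one h2
        rw [hy] at h3
        exact hb h3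
      exact Cfsg.Agent.H756.RIM.nb_apply (hNB _ (by omega) hpm) π hπ hπk hperf μ rfl
  -- a character of `Q` over `θ`
  obtain ⟨χ, hχ, hov⟩ := exists_over_subtype E hθ
  obtain ⟨l0, hl0, -⟩ := Cfsg.Agent.CharactersDeep.Extraspecial.exists_central_hom hχ
  let l' : Z →* ℂˣ := l0.comp (Subgroup.inclusion hZ)
  have hl' : ∀ z : Z, χ z = χ 1 * l' z := by
    intro z
    have h1 := hl0 1 ⟨z, hZ z.2⟩
    rw [one_mul] at h1
    exact h1
  have hll : ∀ x : π.ker, l' (j x) = μ x := by
    intro x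
    have h1 : Over (E.subtype.comp π.ker.subtype) χ (lf μ) := by
      rw [over_comp_iff _ _ (isIrr_isCharacter hχ) (isIrr_lf μ)]
      refine ⟨θ, hθ, hov, ?_⟩
      rw [over_lin_iff _ (fun z => hπk z.2) hθ]
      exact hθμ
    rw [over_lin_iff _ (fun z => hZ (hπZ z)) hχ] at h1
    have h2 := h1 x
    have h3 := hl' (j x)
    have h4 : χ 1 * (l' (j x) : ℂ) = χ 1 * μ x := by rw [← h3, ← h2]; rfl
    exact Units.ext (mul_left_cancel₀ (isIrr_apply_one_ne_zero hχ) h4)
  let q : Z →* Q ⧸ E := (QuotientGroup.mk' E).comp Z.subtype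
  have hq : Function.Surjective q := by
    intro y
    obtain ⟨x, rfl⟩ := QuotientGroup.mk'_surjective E y
    obtain ⟨e, he, z, hz, rfl⟩ := hQ x
    refine ⟨⟨z, hz⟩, ?_⟩
    change QuotientGroup.mk' E z = QuotientGroup.mk' E (e * z)
    rw [map_mul, show QuotientGroup.mk' E e = 1 from (QuotientGroup.eq_one_iff e).2 he, one_mul]
  let κ : Z →* ℂˣ := l * l'⁻¹
  have hκ : ∀ z, κ z = l z * (l' z)⁻¹ := fun _ => rfl
  have hqκ : q.ker ≤ κ.ker := by
    intro z hz
    have hzE : (z : Q) ∈ E := (QuotientGroup.eq_one_iff _).1 hz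
    have hzk : (⟨z, hzE⟩ : E) ∈ π.ker := by
      change f z = 1
      rw [← MonoidHom.mem_ker, hker]
      exact z.2
    have h1 := hll ⟨⟨z, hzE⟩, hzk⟩
    rw [hμ] at h1
    rw [MonoidHom.mem_ker, hκ]
    have h2 : j ⟨⟨z, hzE⟩, hzk⟩ = z := rfl
    rw [h2] at h1
    rw [h1, mul_inv_cancel]
  let ν0 : Q ⧸ E →* ℂˣ := q.liftOfSurjective hq ⟨κ, hqκ⟩
  let ν : Q →* ℂˣ := ν0.comp (QuotientGroup.mk' E)
  have hν : ∀ z : Z, ν z = κ z := by
    intro z
    change ν0 (q z) = κ z
    exact MonoidHom.liftOfRightInverse_comp_apply _ _ _ _ z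
  have h1 : IsIrrCharacter Q (fun g => (ν g : ℂ) * χ g) := Cfsg.Agent.H672.isIrr_mul_lf ν hχ
  refine hrel _ h1 ?_ ?_
  · rw [over_lin_iff Z.subtype (fun z => hZ z.2) h1]
    intro z
    change (ν z : ℂ) * χ z = (ν 1 : ℂ) * χ 1 * l z
    rw [hν, hl' z, hκ, map_one, Units.val_one, one_mul]
    have h2 : ((l z * (l' z)⁻¹ : ℂˣ) : ℂ) * (l' z : ℂ) = l z := by
      rw [← Units.val_mul, inv_mul_cancel_right]
    calc ((l z * (l' z)⁻¹ : ℂˣ) : ℂ) * (χ 1 * (l' z : ℂ))
        = χ 1 * (((l z * (l' z)⁻¹ : ℂˣ) : ℂ) * (l' z : ℂ)) := by ring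
      _ = _ := by rw [h2]
  · rw [charDegree_lf, mul_one]
    have h2 : charDegree (fun g => (ν g : ℂ) * χ g) = charDegree χ := by
      rw [Blocks.Basic.charDegree_def, Blocks.Basic.charDegree_def, map_one, Units.val_one, one_mul]
    rw [h2]
    exact hθp.trans (charDegree_dvd_of_over E hχ hθ hov).1

/-- **A bad triple over a simple group which is not bad.** -/
theorem bad_triple {p : ℕ} [hp : Fact p.Prime] {G : Type u} [Group G] [Finite G] (K : Subgroup G) [hK : K.Normal]
    {ψ : K → ℂ} (hψ : IsIrrCharacter K ψ) (hinv : inertia K ψ = ⊤) (hrel : RelP p K.subtype ψ)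
    {S : Type u} [Group S] [Finite S]
    [IsSimpleGroup S] (na : commutator S = ⊤) (hd : p ∣ Nat.card S) (f : G →* S) (hf : Function.Surjective f)
    (hker : f.ker = K) (hNB : NBall.{u} p S) (hIM : IM.{u} p) : False := by
  obtain ⟨Δ, Q, _, _, _, π, m, Z, l, hπ, hm, hcomap, hZ, h1, -⟩ := exists_triple (p := p) K hψ hinv
  have hle : m.ker ≤ (f.comp π).ker := by
    intro x hx
    have h2 : x ∈ Z.comap m := by
      change m x ∈ Z
      rw [MonoidHom.mem_ker.1 hx]
      exact one_mem Z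
    rw [← hcomap, Subgroup.mem_comap, ← hker] at h2
    exact h2
  let f' : Q →* S := m.liftOfSurjective hm ⟨f.comp π, hle⟩
  have hf' : ∀ x, f' (m x) = f (π x) := fun x => MonoidHom.liftOfRightInverse_comp_apply _ _ _ _ x
  refine bad_central Z hZ l (h1 hrel) na hd f' ?_ ?_ hNB hIM
  · intro s
    obtain ⟨g, rfl⟩ := hf s
    obtain ⟨x, rfl⟩ := hπ g
    exact ⟨m x, hf' x⟩
  · ext y
    obtain ⟨x, rfl⟩ := hm y
    rw [MonoidHom.mem_ker, hf', ← MonoidHom.mem_ker, hker]
    have h2 : x ∈ K.comap π ↔ x ∈ Z.comap m := by rw [hcomap]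
    exact h2

end Cfsg.Agent.H880.RIM
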