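import Mathlib

/-!
# Sum-zero modules of alternating groups in central extensions: the complement lemma (helper880)

`exists_lam`: `D` is an abelian group with an action of `G`, `N` a subgroup of `D` fixed by `G`, and `D / N` is the
group of the functions on `Ω` with values in `Θ` and product one, on which `G` acts through the permutation group
`Alt(Ω)`.  If the stabilizer of two points acts trivially on the elements supported by these two points, then every
linear character of `N` has a `G`-invariant extension to `D`.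
-/

set_option autoImplicit false
set_option linter.unusedSectionVars false

namespace Cfsg.Agent.H880.RIM

open Equiv.Perm

section alt

variable {Ω : Type*} [Fintype Ω] [DecidableEq Ω]

/-- Homomorphisms from an alternating group to an abelian group. -/
theorem hom_alt_trivial {M : Type*} [CommGroup M] (f : alternatingGroup Ω →* M)
    (h : 5 ≤ Nat.card Ω ∨ ∀ m : M, m ^ 3 = 1 → m = 1) (x : alternatingGroup Ω) : f x = 1 := by
  rcases h with h | h
  · have h1 := commutator_alternatingGroup_eq_top h
    have h2 : x ∈ commutator (alternatingGroup Ω) := by rw [h1]; trivial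
    exact MonoidHom.mem_ker.1 (Abelianization.commutator_subset_ker f h2)
  · have h1 : x ∈ Subgroup.closure {g : alternatingGroup Ω | IsThreeCycle (g : Equiv.Perm Ω)} := by
      rw [alternatingGroup.closure_isThreeCycles_eq_top]; trivial
    have h2 : Subgroup.closure {g : alternatingGroup Ω | IsThreeCycle (g : Equiv.Perm Ω)} ≤ f.ker := by
      rw [Subgroup.closure_le]
      intro g hg
      refine MonoidHom.mem_ker.2 (h _ ?_)
      rw [← map_pow]
      have h3 : g ^ 3 = 1 := by
        apply Subtype.ext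
        have h4 := IsThreeCycle.orderOf hg
        rw [Subgroup.coe_pow, ← h4, pow_orderOf_eq_one]
        rfl
      rw [h3, map_one]
    exact MonoidHom.mem_ker.1 (h2 h1)

theorem exists_even_of_inj {k : ℕ} (x y : Fin k → Ω) (hx : Function.Injective x) (hy : Function.Injective y)
    (hk : k + 2 ≤ Fintype.card Ω) : ∃ σ : Equiv.Perm Ω, sign σ = 1 ∧ ∀ i, σ (x i) = y i := by
  obtain ⟨σ, hσ⟩ := Equiv.Perm.exists_extending_pair x y hx hy
  rcases Int.units_eq_one_or (sign σ) with h | h
  · exact ⟨σ, h, hσ⟩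
  · have h1 : (Finset.univ.image y).card ≤ k := by
      refine Finset.card_image_le.trans ?_
      rw [Finset.card_univ, Fintype.card_fin]
    have h2 : 1 < (Finset.univ \ Finset.univ.image y).card := by
      have h3 := Finset.le_card_sdiff (Finset.univ.image y) (Finset.univ : Finset Ω)
      rw [Finset.card_univ] at h3
      omega
    obtain ⟨a, ha, b, hb, hab⟩ := Finset.one_lt_card.1 h2
    refine ⟨Equiv.swap a b * σ, ?_, fun i => ?_⟩
    · rw [map_mul, h, Equiv.Perm.sign_swap hab]
      rfl
    · rw [Equiv.Perm.mul_apply, hσ]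
      have h4 : y i ≠ a := by
        rintro rfl
        exact (Finset.mem_sdiff.1 ha).2 (Finset.mem_image_of_mem y (Finset.mem_univ i))
      have h5 : y i ≠ b := by
        rintro rfl
        exact (Finset.mem_sdiff.1 hb).2 (Finset.mem_image_of_mem y (Finset.mem_univ i))
      exact Equiv.swap_apply_of_ne_of_ne h4 h5

end alt

section vec

variable {Ω C : Type*} [DecidableEq Ω] [CommGroup C]

/-- the function with values `s` at `i`, `s⁻¹` at `j`, and `1` elsewhere -/
def vec (i j : Ω) (s : C) : Ω → C := fun k => if k = i then s else if k = j then s⁻¹ else 1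

theorem vec_left (i j : Ω) (s : C) : vec i j s i = s := if_pos rfl

theorem vec_right {i j : Ω} (h : i ≠ j) (s : C) : vec i j s j = s⁻¹ := by
  rw [vec, if_neg h.symm, if_pos rfl]

theorem vec_other {i j k : Ω} (hi : k ≠ i) (hj : k ≠ j) (s : C) : vec i j s k = 1 := by
  rw [vec, if_neg hi, if_neg hj]

theorem vec_mul (i j : Ω) (s t : C) : vec i j (s * t) = vec i j s * vec i j t := by
  funext k
  simp only [vec, Pi.mul_apply]
  split_ifs
  · rfl
  · rw [mul_inv]
  · rw [one_mul]

theorem vec_one (i j : Ω) : vec i j (1 : C) = 1 := by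
  funext k
  simp only [vec, Pi.one_apply, inv_one, ite_self]

theorem vec_inv (i j : Ω) (s : C) : vec i j s⁻¹ = (vec i j s)⁻¹ := by
  rw [eq_inv_iff_mul_eq_one, ← vec_mul, inv_mul_cancel, vec_one]

theorem vec_swap {i j : Ω} (h : i ≠ j) (s : C) : vec j i s = (vec i j s)⁻¹ := by
  funext k
  rw [Pi.inv_apply]
  by_cases hi : k = i
  · subst hi; rw [vec_left, vec_right h.symm]
  · by_cases hj : k = j
    · subst hj; rw [vec_left, vec_right h, inv_inv]
    · rw [vec_other hj hi, vec_other hi hj, inv_one]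

theorem vec_add {i j k : Ω} (hij : i ≠ j) (hik : i ≠ k) (hjk : j ≠ k) (s : C) :
    vec i j s * vec j k s = vec i k s := by
  funext l
  rw [Pi.mul_apply]
  by_cases hi : l = i
  · subst hi; rw [vec_left, vec_left, vec_other hij hik, mul_one]
  · by_cases hj : l = j
    · subst hj; rw [vec_right hij, vec_left, vec_other hi hjk, inv_mul_cancel]
    · by_cases hk : l = k
      · subst hk; rw [vec_other hi hj, vec_right hjk, vec_right hik, one_mul]
      · rw [vec_other hi hj, vec_other hj hk, vec_other hi hk, one_mul]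

end vec

section compl

variable {G D Ω C : Type*} [Group G] [CommGroup D] [Fintype Ω] [DecidableEq Ω] [CommGroup C]

/-- The situation of the complement lemma. -/
structure SZ (α : G →* MulAut D) (ρ : G →* Equiv.Perm Ω) (c : D →* (Ω → C)) (N : Subgroup D)
    (Θ : Subgroup C) : Prop where
  fix : ∀ g, ∀ n ∈ N, α g n = n
  ker : ∀ d, c d = 1 ↔ d ∈ N
  eqv : ∀ g d i, c (α g d) (ρ g i) = c d i
  mem : ∀ d i, c d i ∈ Θ
  sum : ∀ d, ∏ i, c d i = 1
  surj : ∀ i j, i ≠ j → ∀ s ∈ Θ, ∃ d, c d = vec i j s
  alt : ∀ σ : Equiv.Perm Ω, sign σ = 1 → ∃ g, ρ g = σ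
  loc : ∀ g i j, i ≠ j → ρ g i = i → ρ g j = j → ∀ d s, c d = vec i j s → α g d = d

variable {α : G →* MulAut D} {ρ : G →* Equiv.Perm Ω} {c : D →* (Ω → C)} {N : Subgroup D} {Θ : Subgroup C}

theorem SZ.c_act (S : SZ α ρ c N Θ) (g : G) {i j : Ω} {d : D} {s : C} (h : c d = vec i j s) :
    c (α g d) = vec (ρ g i) (ρ g j) s := by
  funext k
  have h1 := S.eqv g d ((ρ g).symm k)
  rw [Equiv.apply_symm_apply] at h1
  rw [h1, h]
  simp only [vec]
  have e : ∀ l, (ρ g).symm k = l ↔ k = ρ g l := fun l => by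
    rw [Equiv.symm_apply_eq]
  simp only [e]

/-- The complement lemma, elements: there are lifts `y i j s` of the sum-zero vectors which `G` permutes, with
`y i j s * y j k s = y i k s`. -/
theorem SZ.exists_lifts (S : SZ α ρ c N Θ) (h5 : 5 ≤ Fintype.card Ω) :
    ∃ y : Ω → Ω → C → D, (∀ i j, i ≠ j → ∀ s ∈ Θ, c (y i j s) = vec i j s) ∧
      (∀ g i j, i ≠ j → ∀ s ∈ Θ, α g (y i j s) = y (ρ g i) (ρ g j) s) ∧
      (∀ i j k, i ≠ j → i ≠ k → j ≠ k → ∀ s ∈ Θ, y i j s * y j k s = y i k s) := by
  classical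
  -- three distinct points
  obtain ⟨e, he⟩ : ∃ e : Fin 3 → Ω, Function.Injective e := by
    obtain ⟨f⟩ := Function.Embedding.nonempty_of_card_le (α := Fin 3) (β := Ω)
      (by rw [Fintype.card_fin]; omega)
    exact ⟨f, f.injective⟩
  have e01 : e 0 ≠ e 1 := fun h => by have := he h; exact absurd this (by decide)
  have e02 : e 0 ≠ e 2 := fun h => by have := he h; exact absurd this (by decide)
  have e12 : e 1 ≠ e 2 := fun h => by have := he h; exact absurd this (by decide)
  have h2 : ∀ i j : Ω, ∃ g, i ≠ j → ρ g (e 0) = i ∧ ρ g (e 1) = j := by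
    intro i j
    by_cases hij : i = j
    · exact ⟨1, fun h => absurd hij h⟩
    · obtain ⟨σ, hσ, h⟩ := exists_even_of_inj (k := 2) ![e 0, e 1] ![i, j] (by
        intro a b h
        fin_cases a <;> fin_cases b <;> simp_all) (by
        intro a b h
        fin_cases a <;> fin_cases b <;> simp_all) (by omega)
      obtain ⟨g, rfl⟩ := S.alt σ hσ
      exact ⟨g, fun _ => ⟨by simpa using h 0, by simpa using h 1⟩⟩
  have h3 : ∀ i j k : Ω, i ≠ j → i ≠ k → j ≠ k → ∃ g, ρ g (e 0) = i ∧ ρ g (e 1) = j ∧ ρ g (e 2) = k := by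
    intro i j k hij hik hjk
    obtain ⟨σ, hσ, h⟩ := exists_even_of_inj (k := 3) e ![i, j, k] he (by
        intro a b h
        fin_cases a <;> fin_cases b <;> simp_all) (by omega)
    obtain ⟨g, rfl⟩ := S.alt σ hσ
    exact ⟨g, by simpa using h 0, by simpa using h 1, by simpa using h 2⟩
  choose g hg using h2
  have hu : ∀ s : C, ∃ d, s ∈ Θ → c d = vec (e 0) (e 1) s := by
    intro s
    by_cases hs : s ∈ Θ
    · obtain ⟨d, hd⟩ := S.surj _ _ e01 s hs
      exact ⟨d, fun _ => hd⟩
    · exact ⟨1, fun h => absurd h hs⟩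
  choose u hu using hu
  let U : Ω → Ω → C → D := fun i j s => α (g i j) (u s)
  have hUc : ∀ i j, i ≠ j → ∀ s ∈ Θ, c (U i j s) = vec i j s := by
    intro i j hij s hs
    have h := S.c_act (g i j) (hu s hs)
    rwa [(hg i j hij).1, (hg i j hij).2] at h
  have hUe : ∀ h i j, i ≠ j → ∀ s ∈ Θ, α h (U i j s) = U (ρ h i) (ρ h j) s := by
    intro h i j hij s hs
    have hij' : ρ h i ≠ ρ h j := fun h' => hij ((ρ h).injective h')
    have h1 : α ((g (ρ h i) (ρ h j))⁻¹ * (h * g i j)) (u s) = u s := by
      refine S.loc _ (e 0) (e 1) e01 ?_ ?_ (u s) s (hu s hs)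
      · rw [map_mul, map_mul, Equiv.Perm.mul_apply, Equiv.Perm.mul_apply, (hg i j hij).1, map_inv,
          Equiv.Perm.inv_eq_iff_eq, (hg _ _ hij').1]
      · rw [map_mul, map_mul, Equiv.Perm.mul_apply, Equiv.Perm.mul_apply, (hg i j hij).2, map_inv,
          Equiv.Perm.inv_eq_iff_eq, (hg _ _ hij').2]
    change α h (α (g i j) (u s)) = α (g (ρ h i) (ρ h j)) (u s)
    rw [map_mul, map_mul, MulAut.mul_apply, MulAut.mul_apply, map_inv, MulAut.inv_apply,
      MulEquiv.symm_apply_eq] at h1
    exact h1
  -- the constant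
  let m : C → D := fun s => U (e 0) (e 1) s * U (e 1) (e 2) s * (U (e 0) (e 2) s)⁻¹
  have hm : ∀ s ∈ Θ, m s ∈ N := by
    intro s hs
    rw [← S.ker]
    change c (U (e 0) (e 1) s * U (e 1) (e 2) s * (U (e 0) (e 2) s)⁻¹) = 1
    rw [map_mul, map_mul, map_inv, hUc _ _ e01 s hs, hUc _ _ e12 s hs, hUc _ _ e02 s hs,
      vec_add e01 e02 e12, mul_inv_cancel]
  have hm3 : ∀ i j k, i ≠ j → i ≠ k → j ≠ k → ∀ s ∈ Θ, U i j s * U j k s = U i k s * m s := by
    intro i j k hij hik hjk s hs
    obtain ⟨h, h0, h1, h2⟩ := h3 i j k hij hik hjk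
    have h4 := S.fix h (m s) (hm s hs)
    rw [← h4]
    change _ = _ * α h (U (e 0) (e 1) s * U (e 1) (e 2) s * (U (e 0) (e 2) s)⁻¹)
    rw [map_mul, map_mul, map_inv, hUe h _ _ e01 s hs, hUe h _ _ e12 s hs, hUe h _ _ e02 s hs, h0, h1, h2]
    rw [mul_comm (U i k s), inv_mul_cancel_right]
  refine ⟨fun i j s => U i j s * (m s)⁻¹, fun i j hij s hs => ?_, fun h i j hij s hs => ?_,
    fun i j k hij hik hjk s hs => ?_⟩
  · rw [map_mul, map_inv, (S.ker _).2 (hm s hs), hUc i j hij s hs, inv_one, mul_one]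
  · rw [map_mul, map_inv, S.fix h _ (hm s hs), hUe h i j hij s hs]
  · have h := hm3 i j k hij hik hjk s hs
    change U i j s * (m s)⁻¹ * (U j k s * (m s)⁻¹) = U i k s * (m s)⁻¹
    rw [mul_mul_mul_comm, h]
    group

/-- **The complement lemma**: an invariant extension. -/
theorem SZ.exists_lam (S : SZ α ρ c N Θ) (h5 : 5 ≤ Fintype.card Ω) {M : Type*} [CommGroup M] (φ : N →* M) :
    ∃ l : D →* M, (∀ n : N, l n = φ n) ∧ ∀ g d, l (α g d) = l d := by
  classical
  obtain ⟨y, hy, hye, hy3⟩ := S.exists_lifts h5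
  obtain ⟨o⟩ : Nonempty Ω := Fintype.card_pos_iff.1 (by omega)
  -- a third point
  have third : ∀ i j : Ω, ∃ k, k ≠ i ∧ k ≠ j := by
    intro i j
    by_contra h
    push Not at h
    have h1 : (Finset.univ : Finset Ω) ⊆ {i, j} := by
      intro k _
      by_cases hk : k = i
      · simp [hk]
      · simp [h k hk]
    have h2 := (Finset.card_le_card h1).trans Finset.card_le_two
    rw [Finset.card_univ] at h2
    omega
  have hrev : ∀ i j, i ≠ j → ∀ s ∈ Θ, y i j s * y j i s = 1 := by
    intro i j hij s hs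
    obtain ⟨k, hki, hkj⟩ := third i j
    have h1 := hy3 j i k hij.symm hkj.symm hki.symm s hs
    have h2 := hy3 i j k hij hki.symm hkj.symm s hs
    have h3 : y i j s * y j i s * y i k s = y i k s := by
      rw [mul_assoc, h1, h2]
    exact mul_eq_right.1 h3
  -- additivity
  have hadd : ∀ i j, i ≠ j → ∀ s ∈ Θ, ∀ t ∈ Θ, y i j (s * t) = y i j s * y i j t := by
    intro i j hij s hs t ht
    let q : Ω → Ω → D := fun a b => y a b s * y a b t * (y a b (s * t))⁻¹
    have hq : ∀ a b, a ≠ b → q a b ∈ N := by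
      intro a b hab
      rw [← S.ker]
      change c (y a b s * y a b t * (y a b (s * t))⁻¹) = 1
      rw [map_mul, map_mul, map_inv, hy a b hab s hs, hy a b hab t ht, hy a b hab _ (mul_mem hs ht),
        vec_mul, mul_inv_cancel]
    have hqe : ∀ a b a' b', a ≠ b → a' ≠ b' → q a b = q a' b' := by
      intro a b a' b' hab hab'
      obtain ⟨σ, hσ, h⟩ := exists_even_of_inj (k := 2) ![a, b] ![a', b'] (by
        intro a b h
        fin_cases a <;> fin_cases b <;> simp_all) (by
        intro a b h
        fin_cases a <;> fin_cases b <;> simp_all) (by omega)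
      obtain ⟨g, rfl⟩ := S.alt σ hσ
      have h0 : ρ g a = a' := by simpa using h 0
      have h1 : ρ g b = b' := by simpa using h 1
      rw [← S.fix g _ (hq a b hab)]
      change α g (y a b s * y a b t * (y a b (s * t))⁻¹) = _
      rw [map_mul, map_mul, map_inv, hye g a b hab s hs, hye g a b hab t ht,
        hye g a b hab _ (mul_mem hs ht), h0, h1]
    obtain ⟨k, hki, hkj⟩ := third i j
    have h1 : q i j * q j k = q i k := by
      have e1 := hy3 i j k hij hki.symm hkj.symm s hs
      have e2 := hy3 i j k hij hki.symm hkj.symm t ht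
      have e3 := hy3 i j k hij hki.symm hkj.symm _ (mul_mem hs ht)
      change y i j s * y i j t * (y i j (s * t))⁻¹ * (y j k s * y j k t * (y j k (s * t))⁻¹) =
        y i k s * y i k t * (y i k (s * t))⁻¹
      rw [← e1, ← e2, ← e3, mul_inv]
      simp only [mul_assoc, mul_comm, mul_left_comm]
    rw [hqe j k i j hkj.symm hij, hqe i k i j hki.symm hij] at h1
    have h2 : q i j = 1 := mul_eq_left.1 h1
    exact (mul_inv_eq_one.1 h2).symm
  -- the homomorphism
  let yo : Ω → C → D := fun i s => if i = o then 1 else y i o s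
  have hyo : ∀ i, ∀ s ∈ Θ, ∀ t ∈ Θ, yo i (s * t) = yo i s * yo i t := by
    intro i s hs t ht
    change (if i = o then 1 else y i o (s * t)) = (if i = o then 1 else y i o s) * (if i = o then 1 else y i o t)
    by_cases h : i = o
    · simp only [if_pos h, one_mul]
    · simp only [if_neg h]
      exact hadd i o h s hs t ht
  have hyo1 : ∀ i, yo i 1 = 1 := by
    intro i
    have h := hyo i 1 (one_mem _) 1 (one_mem _)
    rw [one_mul] at h
    exact (mul_eq_left.1 h.symm)
  let Y : D →* D :=
    { toFun := fun d => ∏ i, yo i (c d i)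
      map_one' := by
        refine Finset.prod_eq_one fun i _ => ?_
        rw [map_one, Pi.one_apply, hyo1]
      map_mul' := by
        intro a b
        rw [← Finset.prod_mul_distrib]
        refine Finset.prod_congr rfl fun i _ => ?_
        rw [map_mul, Pi.mul_apply, hyo i _ (S.mem a i) _ (S.mem b i)] }
  have hYd : ∀ d, Y d = ∏ i, yo i (c d i) := fun d => rfl
  have hcyo : ∀ i, ∀ s ∈ Θ, ∀ k, k ≠ o → c (yo i s) k = if k = i then s else 1 := by
    intro i s hs k hk
    change c (if i = o then 1 else y i o s) k = _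
    by_cases h : i = o
    · rw [if_pos h, map_one, Pi.one_apply, if_neg (fun h' => hk (h'.trans h))]
    · rw [if_neg h, hy i o h s hs]
      simp only [vec, if_neg hk]
  have hcY : ∀ d, c (Y d) = c d := by
    intro d
    have h1 : ∀ k, k ≠ o → c (Y d) k = c d k := by
      intro k hk
      rw [hYd, map_prod, Finset.prod_apply]
      rw [Finset.prod_congr rfl fun i _ => hcyo i _ (S.mem d i) k hk]
      rw [Finset.prod_ite_eq]
      simp
    have h2 := S.sum (Y d)
    have h3 := S.sum d
    rw [← Finset.mul_prod_erase _ _ (Finset.mem_univ o)] at h2 h3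
    have h4 : ∏ i ∈ Finset.univ.erase o, c (Y d) i = ∏ i ∈ Finset.univ.erase o, c d i :=
      Finset.prod_congr rfl fun i hi => h1 i (Finset.ne_of_mem_erase hi)
    rw [h4, ← h3] at h2
    funext k
    by_cases hk : k = o
    · rw [hk]; exact mul_right_cancel h2
    · exact h1 k hk
  have hN : ∀ d, d * (Y d)⁻¹ ∈ N := by
    intro d
    rw [← S.ker, map_mul, map_inv, hcY, mul_inv_cancel]
  have hYN : ∀ n ∈ N, Y n = 1 := by
    intro n hn
    rw [hYd]
    refine Finset.prod_eq_one fun i _ => ?_
    rw [(S.ker n).2 hn, Pi.one_apply, hyo1]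
  -- `Y` on the lifts
  have hYy : ∀ i j, i ≠ j → ∀ s ∈ Θ, Y (y i j s) = y i j s := by
    intro i j hij s hs
    rw [hYd, hy i j hij s hs]
    have h1 : ∀ k, yo k (vec i j s k) = (if k = i then yo i s else 1) * (if k = j then yo j s⁻¹ else 1) := by
      intro k
      by_cases hi : k = i
      · subst hi
        rw [vec_left, if_pos rfl, if_neg hij, mul_one]
      · by_cases hj : k = j
        · subst hj
          rw [vec_right hij, if_pos rfl, if_neg hij.symm, one_mul]
        · rw [vec_other hi hj, if_neg hi, if_neg hj, mul_one, hyo1]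
    rw [Finset.prod_congr rfl fun k _ => h1 k, Finset.prod_mul_distrib, Finset.prod_ite_eq', Finset.prod_ite_eq',
      if_pos (Finset.mem_univ _), if_pos (Finset.mem_univ _)]
    have h2 : yo j s⁻¹ = (yo j s)⁻¹ := by
      rw [eq_inv_iff_mul_eq_one, ← hyo j _ (inv_mem hs) _ hs, inv_mul_cancel, hyo1]
    rw [h2]
    change (if i = o then 1 else y i o s) * (if j = o then 1 else y j o s)⁻¹ = _
    by_cases hi : i = o
    · subst hi
      rw [if_pos rfl, if_neg hij.symm, one_mul]
      exact (eq_inv_of_mul_eq_one_left (hrev i j hij s hs)).symm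
    · by_cases hj : j = o
      · subst hj
        rw [if_neg hi, if_pos rfl, inv_one, mul_one]
      · rw [if_neg hi, if_neg hj, ← hy3 i j o hij hi hj s hs, mul_inv_cancel_right]
  let r : D →* N :=
    { toFun := fun d => ⟨d * (Y d)⁻¹, hN d⟩
      map_one' := Subtype.ext (by simp)
      map_mul' := fun a b => Subtype.ext (by
        change a * b * (Y (a * b))⁻¹ = a * (Y a)⁻¹ * (b * (Y b)⁻¹)
        rw [map_mul, mul_inv]
        exact mul_mul_mul_comm _ _ _ _) }
  have hrd : ∀ d, (r d : D) = d * (Y d)⁻¹ := fun d => rfl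
  have hry : ∀ i j, i ≠ j → ∀ s ∈ Θ, r (y i j s) = 1 := by
    intro i j hij s hs
    apply Subtype.ext
    rw [hrd, hYy i j hij s hs, mul_inv_cancel]
    rfl
  have hrn : ∀ n (hn : n ∈ N), r n = ⟨n, hn⟩ := by
    intro n hn
    apply Subtype.ext
    rw [hrd, hYN n hn, inv_one, mul_one]
  refine ⟨φ.comp r, fun n => ?_, fun g d => ?_⟩
  · rw [MonoidHom.comp_apply, hrn n n.2]
  · rw [MonoidHom.comp_apply, MonoidHom.comp_apply]
    congr 1
    have h1 : d = (r d : D) * Y d := by rw [hrd, inv_mul_cancel_right]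
    have h2 : α g d = (r d : D) * ∏ i, α g (yo i (c d i)) := by
      conv_lhs => rw [h1]
      rw [map_mul, S.fix g _ (r d).2, hYd, map_prod]
    have h3 : ∀ i, r (α g (yo i (c d i))) = 1 := by
      intro i
      change r (α g (if i = o then 1 else y i o (c d i))) = 1
      by_cases h : i = o
      · rw [if_pos h, map_one, map_one]
      · rw [if_neg h, hye g i o h _ (S.mem d i)]
        exact hry _ _ (fun h' => h ((ρ g).injective h')) _ (S.mem d i)
    rw [h2, map_mul, map_prod, Finset.prod_congr rfl fun i _ => h3 i, Finset.prod_const_one, mul_one,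
      hrn _ (r d).2]

end compl

end Cfsg.Agent.H880.RIM
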