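import Mathlib
import Cfsg.Agent.H880.RIM.Compl
import Cfsg.Agent.H672.RM.Triple2
import Cfsg.Agent.H672.RM.Cliff

/-!
# Invariant characters for subgroups of wreath products `C ≀ Alt(Ω)`, `C` abelian (helper880)

`KData ρ c N`: `ρ : G →* Perm Ω` has image `Alt(Ω)`, `N` is central in `G`, and `ker ρ / N` is embedded in `Ω → C`
(compatibly with the action of `G`), `C` a commutative group.

`exists_inv`: for a faithful linear character `φ` of `N` there is a `G`-invariant irreducible character of `ker ρ`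
over `φ`.
-/

set_option autoImplicit false
set_option linter.unusedSectionVars false
set_option linter.style.haveILetI false

open Cfsg

namespace Cfsg.Agent.H880.RIM

open Equiv.Perm
open Cfsg.Agent.Characters.Core Cfsg.Agent.Characters.Clifford Cfsg.Agent.H672

section kdata

variable {G Ω C : Type*} [Group G] [Fintype Ω] [DecidableEq Ω] [CommGroup C]

/-- `G / N` is a subgroup of `C ≀ Alt(Ω)` which maps onto `Alt(Ω)`. -/
structure KData (ρ : G →* Equiv.Perm Ω) (c : G → Ω → C) (N : Subgroup G) : Prop where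
  alt : ∀ σ : Equiv.Perm Ω, sign σ = 1 → ∃ g, ρ g = σ
  even : ∀ g, sign (ρ g) = 1
  cen : N ≤ Subgroup.center G
  mul : ∀ x y, ρ x = 1 → ρ y = 1 → ∀ i, c (x * y) i = c x i * c y i
  eqv : ∀ g x, ρ x = 1 → ∀ i, c (g * x * g⁻¹) (ρ g i) = c x i
  ker : ∀ x, ρ x = 1 → ((∀ i, c x i = 1) ↔ x ∈ N)
  NK : ∀ n ∈ N, ρ n = 1

variable {ρ : G →* Equiv.Perm Ω} {c : G → Ω → C} {N : Subgroup G}

theorem KData.rho_conj (g : G) {x : G} (hx : ρ x = 1) : ρ (g * x * g⁻¹) = 1 := by
  rw [map_mul, map_mul, hx, mul_one, map_inv, mul_inv_cancel]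

theorem KData.one (D : KData ρ c N) : c 1 = 1 := by
  funext i
  exact (D.ker 1 (map_one _)).2 (one_mem _) i

theorem KData.mul' (D : KData ρ c N) {x y : G} (hx : ρ x = 1) (hy : ρ y = 1) : c (x * y) = c x * c y := by
  funext i
  exact D.mul x y hx hy i

theorem KData.inv (D : KData ρ c N) {x : G} (hx : ρ x = 1) : c x⁻¹ = (c x)⁻¹ := by
  have h1 : ρ x⁻¹ = 1 := by rw [map_inv, hx, inv_one]
  rw [eq_inv_iff_mul_eq_one, ← D.mul' h1 hx, inv_mul_cancel, D.one]

theorem KData.pow (D : KData ρ c N) {x : G} (hx : ρ x = 1) (n : ℕ) : c (x ^ n) = c x ^ n := by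
  induction n with
  | zero => rw [pow_zero, pow_zero, D.one]
  | succ n ih =>
    have h1 : ρ (x ^ n) = 1 := by rw [map_pow, hx, one_pow]
    rw [pow_succ, pow_succ, D.mul' h1 hx, ih]

theorem KData.conj (D : KData ρ c N) (g : G) {x : G} (hx : ρ x = 1) :
    c (g * x * g⁻¹) = fun t => c x ((ρ g).symm t) := by
  funext t
  have h := D.eqv g x hx ((ρ g).symm t)
  rwa [Equiv.apply_symm_apply] at h

theorem vec_symm (σ : Equiv.Perm Ω) (i j : Ω) (s : C) :
    (fun t => vec i j s (σ.symm t)) = vec (σ i) (σ j) s := by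
  funext t
  have e : ∀ l, σ.symm t = l ↔ t = σ l := fun l => by rw [Equiv.symm_apply_eq]
  simp only [vec, e]

theorem KData.conj_vec (D : KData ρ c N) (g : G) {x : G} (hx : ρ x = 1) {i j : Ω} {s : C}
    (h : c x = vec i j s) : c (g * x * g⁻¹) = vec (ρ g i) (ρ g j) s := by
  rw [D.conj g hx, ← vec_symm, h]

theorem KData.conj_vec2 (D : KData ρ c N) (g : G) {x : G} (hx : ρ x = 1) {i j k l : Ω} {s t : C}
    (h : c x = vec i j s * vec k l t) :
    c (g * x * g⁻¹) = vec (ρ g i) (ρ g j) s * vec (ρ g k) (ρ g l) t := by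
  rw [D.conj g hx, ← vec_symm, ← vec_symm, h]
  rfl

theorem fresh (s : Finset Ω) (h : s.card < Fintype.card Ω) : ∃ k, k ∉ s := by
  by_contra hc
  push Not at hc
  have h1 : (Finset.univ : Finset Ω) ⊆ s := fun k _ => hc k
  have h2 := Finset.card_le_card h1
  rw [Finset.card_univ] at h2
  omega

/-- **Averaging.** -/
theorem KData.avg (D : KData ρ c N) (Y : Subgroup G) (hYK : ∀ y ∈ Y, ρ y = 1)
    (hY : ∀ g, ∀ y ∈ Y, g * y * g⁻¹ ∈ Y) (h5 : 5 ≤ Fintype.card Ω)
    (h7 : 7 ≤ Fintype.card Ω ∨ ∀ y ∈ Y, ∃ n, ¬ 3 ∣ n ∧ y ^ n = 1) {y : G} (hy : y ∈ Y) {i j : Ω} (hij : i ≠ j) :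
    ∃ y' ∈ Y, c y' = vec i j (c y i * (c y j)⁻¹) := by
  classical
  obtain ⟨k, hk⟩ := fresh {i, j} (Finset.card_le_two.trans_lt (by omega))
  obtain ⟨l, hl⟩ := fresh {i, j, k} (Finset.card_le_three.trans_lt (by omega))
  obtain ⟨m, hm⟩ := fresh {i, j, k, l} (Finset.card_le_four.trans_lt (by omega))
  obtain ⟨hki, hkj⟩ : k ≠ i ∧ k ≠ j := by simpa using hk
  obtain ⟨hli, hlj, hlk⟩ : l ≠ i ∧ l ≠ j ∧ l ≠ k := by simpa using hl
  obtain ⟨hmi, hmj, hmk, hml⟩ : m ≠ i ∧ m ≠ j ∧ m ≠ k ∧ m ≠ l := by simpa using hm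
  -- first step
  have hs1 : sign (Equiv.swap i j * Equiv.swap k l) = 1 := by
    rw [map_mul, Equiv.Perm.sign_swap hij, Equiv.Perm.sign_swap hlk.symm]; rfl
  obtain ⟨g1, hg1⟩ := D.alt _ hs1
  obtain ⟨s, hs⟩ : ∃ s, s = c y i * (c y j)⁻¹ := ⟨_, rfl⟩
  obtain ⟨t, ht⟩ : ∃ t, t = c y k * (c y l)⁻¹ := ⟨_, rfl⟩
  rw [← hs]
  have hy1' : g1 * y⁻¹ * g1⁻¹ ∈ Y := hY g1 _ (inv_mem hy)
  let y1 := y * (g1 * y⁻¹ * g1⁻¹)
  have hy1 : y1 ∈ Y := mul_mem hy hy1'
  have hiy : ρ y⁻¹ = 1 := hYK _ (inv_mem hy)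
  have hc1 : c y1 = vec i j s * vec k l t := by
    change c (y * (g1 * y⁻¹ * g1⁻¹)) = _
    rw [D.mul' (hYK _ hy) (hYK _ hy1'), D.conj g1 hiy, D.inv (hYK _ hy), hg1]
    have esymm : ∀ u, (Equiv.swap i j * Equiv.swap k l).symm u = Equiv.swap k l (Equiv.swap i j u) := by
      intro u
      rw [Equiv.symm_apply_eq, Equiv.Perm.mul_apply, Equiv.swap_apply_self, Equiv.swap_apply_self]
    funext u
    simp only [Pi.mul_apply, Pi.inv_apply, esymm]
    by_cases hui : u = i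
    · subst hui
      rw [vec_left, vec_other hki.symm hli.symm, Equiv.swap_apply_left,
        Equiv.swap_apply_of_ne_of_ne hkj.symm hlj.symm, mul_one, hs]
    by_cases huj : u = j
    · subst huj
      rw [vec_right hij, vec_other hkj.symm hlj.symm, Equiv.swap_apply_right,
        Equiv.swap_apply_of_ne_of_ne hki.symm hli.symm, mul_one, hs, mul_inv_rev, inv_inv]
    rw [Equiv.swap_apply_of_ne_of_ne hui huj, vec_other hui huj, one_mul]
    by_cases huk : u = k
    · subst huk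
      rw [vec_left, Equiv.swap_apply_left, ht]
    by_cases hul : u = l
    · subst hul
      rw [vec_right hlk.symm, Equiv.swap_apply_right, ht, mul_inv_rev, inv_inv]
    rw [Equiv.swap_apply_of_ne_of_ne huk hul, vec_other huk hul, mul_inv_cancel]
  -- the three-cycle
  have hs2 : sign (Equiv.swap k l * Equiv.swap l m) = 1 := by
    rw [map_mul, Equiv.Perm.sign_swap hlk.symm, Equiv.Perm.sign_swap hml.symm]; rfl
  obtain ⟨g2, hg2⟩ := D.alt _ hs2
  have ei : ρ g2 i = i := by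
    rw [hg2, Equiv.Perm.mul_apply, Equiv.swap_apply_of_ne_of_ne hli.symm hmi.symm,
      Equiv.swap_apply_of_ne_of_ne hki.symm hli.symm]
  have ej : ρ g2 j = j := by
    rw [hg2, Equiv.Perm.mul_apply, Equiv.swap_apply_of_ne_of_ne hlj.symm hmj.symm,
      Equiv.swap_apply_of_ne_of_ne hkj.symm hlj.symm]
  have ek : ρ g2 k = l := by
    rw [hg2, Equiv.Perm.mul_apply, Equiv.swap_apply_of_ne_of_ne hlk.symm hmk.symm, Equiv.swap_apply_left]
  have el : ρ g2 l = m := by
    rw [hg2, Equiv.Perm.mul_apply, Equiv.swap_apply_left, Equiv.swap_apply_of_ne_of_ne hmk hml]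
  have em : ρ g2 m = k := by
    rw [hg2, Equiv.Perm.mul_apply, Equiv.swap_apply_right, Equiv.swap_apply_right]
  have h2 : c (g2 * y1 * g2⁻¹) = vec i j s * vec l m t := by
    rw [D.conj_vec2 g2 (hYK _ hy1) hc1, ei, ej, ek, el]
  have hy2 : g2 * y1 * g2⁻¹ ∈ Y := hY _ _ hy1
  have h3 : c (g2 * (g2 * y1 * g2⁻¹) * g2⁻¹) = vec i j s * vec m k t := by
    rw [D.conj_vec2 g2 (hYK _ hy2) h2, ei, ej, el, em]
  have hy3 : g2 * (g2 * y1 * g2⁻¹) * g2⁻¹ ∈ Y := hY _ _ hy2
  let z := y1 * (g2 * y1 * g2⁻¹) * (g2 * (g2 * y1 * g2⁻¹) * g2⁻¹)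
  have hz : z ∈ Y := mul_mem (mul_mem hy1 hy2) hy3
  have hcz : c z = vec i j (s ^ 3) := by
    change c (y1 * (g2 * y1 * g2⁻¹) * (g2 * (g2 * y1 * g2⁻¹) * g2⁻¹)) = _
    rw [D.mul' (hYK _ (mul_mem hy1 hy2)) (hYK _ hy3), D.mul' (hYK _ hy1) (hYK _ hy2), hc1, h2, h3]
    have e1 : vec k l t * vec l m t * vec m k t = 1 := by
      rw [vec_add hlk.symm hmk.symm hml.symm, vec_swap hmk.symm, mul_inv_cancel]
    have e2 : vec i j (s ^ 3) = vec i j s * vec i j s * vec i j s := by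
      rw [← vec_mul, ← vec_mul, pow_succ, pow_two]
    rw [e2]
    calc vec i j s * vec k l t * (vec i j s * vec l m t) * (vec i j s * vec m k t)
        = vec i j s * vec i j s * vec i j s * (vec k l t * vec l m t * vec m k t) := by
          simp only [mul_assoc, mul_comm, mul_left_comm]
      _ = _ := by rw [e1, mul_one]
  rcases h7 with h7 | h7
  · obtain ⟨o, ho⟩ := fresh {i, j, k, l, m} (Finset.card_le_five.trans_lt (by omega))
    obtain ⟨hoi, hoj, hok, hol, hom⟩ : o ≠ i ∧ o ≠ j ∧ o ≠ k ∧ o ≠ l ∧ o ≠ m := by simpa using ho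
    have hs3 : sign (Equiv.swap i j * Equiv.swap m o) = 1 := by
      rw [map_mul, Equiv.Perm.sign_swap hij, Equiv.Perm.sign_swap hom.symm]; rfl
    obtain ⟨g3, hg3⟩ := D.alt _ hs3
    have fi : ρ g3 i = j := by
      rw [hg3, Equiv.Perm.mul_apply, Equiv.swap_apply_of_ne_of_ne hmi.symm hoi.symm, Equiv.swap_apply_left]
    have fj : ρ g3 j = i := by
      rw [hg3, Equiv.Perm.mul_apply, Equiv.swap_apply_of_ne_of_ne hmj.symm hoj.symm, Equiv.swap_apply_right]
    have fk : ρ g3 k = k := by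
      rw [hg3, Equiv.Perm.mul_apply, Equiv.swap_apply_of_ne_of_ne hmk.symm hok.symm,
        Equiv.swap_apply_of_ne_of_ne hki hkj]
    have fl : ρ g3 l = l := by
      rw [hg3, Equiv.Perm.mul_apply, Equiv.swap_apply_of_ne_of_ne hml.symm hol.symm,
        Equiv.swap_apply_of_ne_of_ne hli hlj]
    have h4 : c (g3 * y1 * g3⁻¹) = vec j i s * vec k l t := by
      rw [D.conj_vec2 g3 (hYK _ hy1) hc1, fi, fj, fk, fl]
    have hy4 : g3 * y1 * g3⁻¹ ∈ Y := hY _ _ hy1
    have h5' : c (y1 * (g3 * y1 * g3⁻¹)⁻¹) = vec i j (s * s) := by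
      rw [D.mul' (hYK _ hy1) (hYK _ (inv_mem hy4)), D.inv (hYK _ hy4), h4, hc1, vec_swap hij, vec_mul]
      rw [mul_inv, inv_inv]
      calc vec i j s * vec k l t * (vec i j s * (vec k l t)⁻¹)
          = vec i j s * vec i j s * (vec k l t * (vec k l t)⁻¹) := by
            simp only [mul_assoc, mul_comm, mul_left_comm]
        _ = _ := by rw [mul_inv_cancel, mul_one]
    have hy5 : y1 * (g3 * y1 * g3⁻¹)⁻¹ ∈ Y := mul_mem hy1 (inv_mem hy4)
    refine ⟨z * (y1 * (g3 * y1 * g3⁻¹)⁻¹)⁻¹, mul_mem hz (inv_mem hy5), ?_⟩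
    rw [D.mul' (hYK _ hz) (hYK _ (inv_mem hy5)), D.inv (hYK _ hy5), h5', hcz, ← vec_inv, ← vec_mul]
    congr 1
    group
  · -- `3` is invertible
    obtain ⟨n, hn3, hn⟩ := h7 y1 hy1
    have hsn : s ^ n = 1 := by
      have h4 := D.pow (hYK _ hy1) n
      rw [hn, D.one, hc1] at h4
      have h5 := congrFun h4 i
      rw [Pi.one_apply, Pi.pow_apply, Pi.mul_apply, vec_left, vec_other hki.symm hli.symm, mul_one] at h5
      exact h5.symm
    have hco : Nat.Coprime 3 n := (Nat.Prime.coprime_iff_not_dvd Nat.prime_three).2 hn3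
    obtain ⟨u, v, huv⟩ : ∃ u v : ℕ, 3 * u = n * v + 1 := by
      have h4 : n % 3 = 1 ∨ n % 3 = 2 := by omega
      rcases h4 with h4 | h4
      · exact ⟨(2 * n + 1) / 3, 2, by omega⟩
      · exact ⟨(n + 1) / 3, 1, by omega⟩
    refine ⟨z ^ u, pow_mem hz u, ?_⟩
    rw [D.pow (hYK _ hz), hcz]
    have h6 : vec i j (s ^ 3) ^ u = vec i j ((s ^ 3) ^ u) := by
      clear huv
      induction u with
      | zero => rw [pow_zero, pow_zero, vec_one]
      | succ u ih => rw [pow_succ _ u, pow_succ _ u, vec_mul, ih]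
    rw [h6, ← pow_mul, huv, pow_add, pow_mul, hsn, one_pow, one_mul, pow_one]

/-- Two-transitivity. -/
theorem KData.two (D : KData ρ c N) (h5 : 5 ≤ Fintype.card Ω) {i j i' j' : Ω} (hij : i ≠ j) (hij' : i' ≠ j') :
    ∃ g, ρ g i = i' ∧ ρ g j = j' := by
  obtain ⟨σ, hσ, h⟩ := exists_even_of_inj (k := 2) ![i, j] ![i', j'] (by
    intro a b h
    fin_cases a <;> fin_cases b <;> simp_all) (by
    intro a b h
    fin_cases a <;> fin_cases b <;> simp_all) (by omega)
  obtain ⟨g, rfl⟩ := D.alt σ hσ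
  exact ⟨g, by simpa using h 0, by simpa using h 1⟩

/-- The centre of `ker ρ`. -/
def ZK (ρ : G →* Equiv.Perm Ω) : Subgroup G where
  carrier := {x | ρ x = 1 ∧ ∀ y, ρ y = 1 → x * y = y * x}
  one_mem' := ⟨map_one _, fun y _ => by rw [one_mul, mul_one]⟩
  mul_mem' := by
    rintro a b ⟨ha, ha'⟩ ⟨hb, hb'⟩
    refine ⟨by rw [map_mul, ha, hb, one_mul], fun y hy => ?_⟩
    rw [mul_assoc, hb' y hy, ← mul_assoc, ha' y hy, mul_assoc]
  inv_mem' := by
    rintro a ⟨ha, ha'⟩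
    refine ⟨by rw [map_inv, ha, inv_one], fun y hy => ?_⟩
    rw [inv_mul_eq_iff_eq_mul, ← mul_assoc, ha' y hy, mul_inv_cancel_right]

theorem mem_ZK {x : G} : x ∈ ZK ρ ↔ ρ x = 1 ∧ ∀ y, ρ y = 1 → x * y = y * x := Iff.rfl

theorem conj_mem_ZK (g : G) {x : G} (hx : x ∈ ZK ρ) : g * x * g⁻¹ ∈ ZK ρ := by
  refine ⟨KData.rho_conj g hx.1, fun y hy => ?_⟩
  have h1 : ρ (g⁻¹ * y * g) = 1 := by
    have h := KData.rho_conj g⁻¹ hy
    rwa [inv_inv] at h
  have h2 := hx.2 _ h1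
  calc g * x * g⁻¹ * y = g * (x * (g⁻¹ * y * g)) * g⁻¹ := by group
    _ = g * (g⁻¹ * y * g * x) * g⁻¹ := by rw [h2]
    _ = y * (g * x * g⁻¹) := by group

theorem KData.N_le (D : KData ρ c N) : N ≤ ZK ρ := fun n hn =>
  ⟨D.NK n hn, fun y _ => (Subgroup.mem_center_iff.1 (D.cen hn) y).symm⟩

theorem KData.N_comm (D : KData ρ c N) {n : G} (hn : n ∈ N) (g : G) : g * n = n * g :=
  Subgroup.mem_center_iff.1 (D.cen hn) g

/-- **Locality**: the stabilizer of two points centralizes the elements of the centre supported by these points. -/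
theorem KData.loc (D : KData ρ c N) (h5 : 5 ≤ Fintype.card Ω)
    (h7 : 7 ≤ Fintype.card Ω ∨ ∀ n ∈ N, n ^ 3 = 1 → n = 1) {d : G} (hd : d ∈ ZK ρ) {i j : Ω} (hij : i ≠ j)
    {s : C} (hc : c d = vec i j s) {g : G} (hi : ρ g i = i) (hj : ρ g j = j) : g * d * g⁻¹ = d := by
  classical
  let F : G → G := fun g => g * d * g⁻¹ * d⁻¹
  have hFk : ∀ g k, ρ k = 1 → F (g * k) = F g := by
    intro g k hk
    change g * k * d * (g * k)⁻¹ * d⁻¹ = g * d * g⁻¹ * d⁻¹
    have h1 := hd.2 k hk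
    congr 1
    calc g * k * d * (g * k)⁻¹ = g * (k * d) * k⁻¹ * g⁻¹ := by group
      _ = g * (d * k) * k⁻¹ * g⁻¹ := by rw [h1]
      _ = _ := by group
  have hF : ∀ g g', ρ g = ρ g' → F g = F g' := by
    intro g g' h
    have h1 : ρ (g'⁻¹ * g) = 1 := by rw [map_mul, map_inv, h, inv_mul_cancel]
    have h2 := hFk g' _ h1
    rwa [mul_inv_cancel_left] at h2
  have hFN : ∀ g, ρ g i = i → ρ g j = j → F g ∈ N := by
    intro g hi hj
    have h1 : ρ (g * d * g⁻¹) = 1 := KData.rho_conj g hd.1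
    have h2 : ρ d⁻¹ = 1 := by rw [map_inv, hd.1, inv_one]
    have h3 : c (F g) = 1 := by
      change c (g * d * g⁻¹ * d⁻¹) = 1
      rw [D.mul' h1 h2, D.conj_vec g hd.1 hc, D.inv hd.1, hc, hi, hj, mul_inv_cancel]
    refine (D.ker _ ?_).1 (fun t => congrFun h3 t)
    change ρ (g * d * g⁻¹ * d⁻¹) = 1
    rw [map_mul, h1, h2, one_mul]
  have hFmul : ∀ g g', ρ g i = i → ρ g j = j → ρ g' i = i → ρ g' j = j → F (g * g') = F g * F g' := by
    intro g g' hi hj hi' hj'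
    have h1 := D.N_comm (hFN g' hi' hj') g
    have h2 := D.N_comm (hFN g' hi' hj') (F g)
    rw [h2]
    have h3 : g * F g' * (d * g⁻¹ * d⁻¹) = F g' * g * (d * g⁻¹ * d⁻¹) := by rw [h1]
    change g * g' * d * (g * g')⁻¹ * d⁻¹ = F g' * (g * d * g⁻¹ * d⁻¹)
    calc g * g' * d * (g * g')⁻¹ * d⁻¹ = g * (g' * d * g'⁻¹ * d⁻¹) * (d * g⁻¹ * d⁻¹) := by group
      _ = F g' * g * (d * g⁻¹ * d⁻¹) := h3
      _ = _ := by group
  -- the alternating group on the other points
  let S : Finset Ω := Finset.univ \ {i, j}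
  have hS : ∀ σ : alternatingGroup S, ((alternatingGroup.ofSubtype S σ : alternatingGroup Ω) : Equiv.Perm Ω) i = i ∧
      ((alternatingGroup.ofSubtype S σ : alternatingGroup Ω) : Equiv.Perm Ω) j = j := by
    intro σ
    rw [alternatingGroup.coe_ofSubtype]
    constructor
    · exact Equiv.Perm.ofSubtype_apply_of_not_mem _ (by simp [S])
    · exact Equiv.Perm.ofSubtype_apply_of_not_mem _ (by simp [S])
  have hlift : ∀ σ : alternatingGroup S, ∃ g, ρ g = (alternatingGroup.ofSubtype S σ : alternatingGroup Ω) :=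
    fun σ => D.alt _ (Equiv.Perm.mem_alternatingGroup.1 (alternatingGroup.ofSubtype S σ).2)
  choose lift hl using hlift
  letI : CommGroup N := { (inferInstance : Group N) with
    mul_comm := fun a b => Subtype.ext (D.N_comm b.2 (a : G)) }
  have hli : ∀ σ, ρ (lift σ) i = i := fun σ => by rw [hl]; exact (hS σ).1
  have hlj : ∀ σ, ρ (lift σ) j = j := fun σ => by rw [hl]; exact (hS σ).2
  let f : alternatingGroup S →* N := MonoidHom.mk' (fun σ => ⟨F (lift σ), hFN _ (hli σ) (hlj σ)⟩) (by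
    intro a b
    apply Subtype.ext
    change F (lift (a * b)) = F (lift a) * F (lift b)
    rw [← hFmul _ _ (hli a) (hlj a) (hli b) (hlj b)]
    apply hF
    rw [map_mul, hl, hl, hl, map_mul]
    rfl)
  have hcS : Nat.card S = Fintype.card Ω - 2 := by
    rw [Nat.card_eq_fintype_card, Fintype.card_coe, Finset.card_sdiff_of_subset (Finset.subset_univ _),
      Finset.card_univ, Finset.card_pair hij]
  have hft : ∀ σ, f σ = 1 := by
    intro σ
    refine hom_alt_trivial f ?_ σ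
    rcases h7 with h7 | h7
    · left
      rw [hcS]; omega
    · right
      intro m hm
      have h1 := h7 m m.2 (by
        have := congrArg Subtype.val hm
        simpa using this)
      exact Subtype.ext h1
  -- `g`
  have hg1 : (⟨ρ g, Equiv.Perm.mem_alternatingGroup.2 (D.even g)⟩ : alternatingGroup Ω) ∈
      (alternatingGroup.ofSubtype S).range := by
    rw [alternatingGroup.mem_range_ofSubtype_iff]
    intro k hk
    rw [Equiv.Perm.mem_support] at hk
    simp only [S, Finset.mem_sdiff, Finset.mem_univ, true_and, Finset.mem_insert, Finset.mem_singleton, not_or]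
    refine ⟨?_, ?_⟩
    · rintro rfl; exact hk hi
    · rintro rfl; exact hk hj
  obtain ⟨σ, hσ⟩ := hg1
  have h1 : ρ g = ρ (lift σ) := by rw [hl, hσ]
  have h2 : F g = 1 := by
    rw [hF g _ h1]
    exact congrArg Subtype.val (hft σ)
  exact mul_inv_eq_one.1 h2

end kdata

end Cfsg.Agent.H880.RIM
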