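import Mathlib
import Cfsg.Agent.H880.RIM.Inv

/-!
# Invariant characters for subgroups of wreath products `C ≀ Alt(Ω)`, `C` abelian, II (helper880)
-/

set_option autoImplicit false
set_option linter.unusedSectionVars false
set_option linter.style.haveILetI false

open Cfsg

namespace Cfsg.Agent.H880.RIM

open Equiv.Perm
open Cfsg.Agent.Characters.Core Cfsg.Agent.Characters.Clifford Cfsg.Agent.H672
open Cfsg.Agent.H595.Triple Cfsg.Agent.H595.Central
open Cfsg.Agent.H672.RM (over_lin_iff)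

section lam

variable {G Ω C : Type*} [Group G] [Fintype Ω] [DecidableEq Ω] [CommGroup C]
variable {ρ : G →* Equiv.Perm Ω} {c : G → Ω → C} {N : Subgroup G}

theorem prod_vec {i j : Ω} (hij : i ≠ j) (s : C) : ∏ k, vec i j s k = 1 := by
  have h1 : ∀ k, vec i j s k = (if k = i then s else 1) * (if k = j then s⁻¹ else 1) := by
    intro k
    by_cases hi : k = i
    · subst hi
      rw [vec_left, if_pos rfl, if_neg hij, mul_one]
    · by_cases hj : k = j
      · subst hj
        rw [vec_right hij, if_pos rfl, if_neg hij.symm, one_mul]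
      · rw [vec_other hi hj, if_neg hi, if_neg hj, mul_one]
  rw [Finset.prod_congr rfl fun k _ => h1 k, Finset.prod_mul_distrib, Finset.prod_ite_eq', Finset.prod_ite_eq',
    if_pos (Finset.mem_univ _), if_pos (Finset.mem_univ _), mul_inv_cancel]

/-- **The invariant linear character of the centre of `ker ρ`.** -/
theorem KData.exists_lam (D : KData ρ c N) (h5 : 5 ≤ Fintype.card Ω)
    (h7 : 7 ≤ Fintype.card Ω ∨ ∀ y, ρ y = 1 → ∃ n, ¬ 3 ∣ n ∧ y ^ n = 1) {A : Type*} [CommGroup A] [Finite A]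
    (ι : A →* G) (hι : Function.Injective ι) (hA : ∀ x, x ∈ ZK ρ ↔ ∃ a, ι a = x) (φ : N →* ℂˣ) :
    ∃ l : A →* ℂˣ, (∀ a (h : ι a ∈ N), l a = φ ⟨ι a, h⟩) ∧ ∀ g a b, ι b = g * ι a * g⁻¹ → l b = l a := by
  classical
  have hr : ∀ a, ι a ∈ ZK ρ := fun a => (hA _).2 ⟨a, rfl⟩
  have hr1 : ∀ a, ρ (ι a) = 1 := fun a => (hr a).1
  obtain ⟨i0⟩ : Nonempty Ω := Fintype.card_pos_iff.1 (by omega)
  obtain ⟨j0, hj0⟩ := fresh {i0} (by rw [Finset.card_singleton]; omega)
  have hij0 : i0 ≠ j0 := by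
    intro h
    apply hj0
    rw [h]
    exact Finset.mem_singleton_self _
  -- conjugation
  have hcj : ∀ g a, ∃ b, ι b = g * ι a * g⁻¹ := fun g a => (hA _).1 (conj_mem_ZK g (hr a))
  choose cj hcj using hcj
  have cj_mul : ∀ g a b, cj g (a * b) = cj g a * cj g b := by
    intro g a b
    apply hι
    rw [hcj, map_mul, map_mul, hcj, hcj]
    group
  have cj_comp : ∀ g h a, cj (g * h) a = cj g (cj h a) := by
    intro g h a
    apply hι
    rw [hcj, hcj, hcj]
    group
  have cj_one : ∀ a, cj 1 a = a := by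
    intro a
    apply hι
    rw [hcj]
    group
  -- the values
  let Θ : Subgroup C :=
    { carrier := {s | ∃ a : A, c (ι a) = vec i0 j0 s}
      one_mem' := ⟨1, by rw [map_one, D.one, vec_one]⟩
      mul_mem' := by
        rintro s t ⟨a, ha⟩ ⟨b, hb⟩
        exact ⟨a * b, by rw [map_mul, D.mul' (hr1 a) (hr1 b), ha, hb, vec_mul]⟩
      inv_mem' := by
        rintro s ⟨a, ha⟩
        exact ⟨a⁻¹, by rw [map_inv, D.inv (hr1 a), ha, vec_inv]⟩ }
  have hΘ : ∀ i j i' j' : Ω, i ≠ j → i' ≠ j' → ∀ s, (∃ a : A, c (ι a) = vec i j s) →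
      ∃ a : A, c (ι a) = vec i' j' s := by
    rintro i j i' j' hij hij' s ⟨a, ha⟩
    obtain ⟨g, rfl, rfl⟩ := D.two h5 hij hij'
    exact ⟨cj g a, by rw [hcj, D.conj_vec g (hr1 a) ha]⟩
  have havg : ∀ a i j, i ≠ j → c (ι a) i * (c (ι a) j)⁻¹ ∈ Θ := by
    intro a i j hij
    obtain ⟨y, hy, h⟩ := D.avg (ZK ρ) (fun y hy => hy.1) (fun g y hy => conj_mem_ZK g hy) h5
      (h7.imp id fun h y hy => h y hy.1) (hr a) hij
    obtain ⟨b, rfl⟩ := (hA _).1 hy
    exact hΘ _ _ _ _ hij hij0 _ ⟨b, h⟩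
  let Z1 : Subgroup A :=
    { carrier := {a | ∏ i, c (ι a) i = 1 ∧ ∀ i, c (ι a) i ∈ Θ}
      one_mem' := by
        refine ⟨?_, fun i => ?_⟩
        · rw [map_one, D.one]; exact Finset.prod_const_one
        · rw [map_one, D.one]; exact one_mem Θ
      mul_mem' := by
        rintro a b ⟨ha, ha'⟩ ⟨hb, hb'⟩
        refine ⟨?_, fun i => ?_⟩
        · rw [map_mul, D.mul' (hr1 a) (hr1 b)]
          simp only [Pi.mul_apply]
          rw [Finset.prod_mul_distrib, ha, hb, one_mul]
        · rw [map_mul, D.mul' (hr1 a) (hr1 b)]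
          exact mul_mem (ha' i) (hb' i)
      inv_mem' := by
        rintro a ⟨ha, ha'⟩
        refine ⟨?_, fun i => ?_⟩
        · rw [map_inv, D.inv (hr1 a)]
          simp only [Pi.inv_apply]
          rw [Finset.prod_inv_distrib, ha, inv_one]
        · rw [map_inv, D.inv (hr1 a)]
          exact inv_mem (ha' i) }
  have hZ1 : ∀ a, a ∈ Z1 ↔ ∏ i, c (ι a) i = 1 ∧ ∀ i, c (ι a) i ∈ Θ := fun a => Iff.rfl
  have hcjZ : ∀ g a, a ∈ Z1 → cj g a ∈ Z1 := by
    intro g a ha
    rw [hZ1] at ha ⊢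
    have h1 : c (ι (cj g a)) = fun t => c (ι a) ((ρ g).symm t) := by rw [hcj, D.conj g (hr1 a)]
    rw [h1]
    refine ⟨?_, fun i => ha.2 _⟩
    rw [← ha.1]
    exact Equiv.prod_comp (ρ g).symm (fun i => c (ι a) i)
  let α : G →* MulAut Z1 :=
    { toFun := fun g =>
        { toFun := fun d => ⟨cj g d, hcjZ g d d.2⟩
          invFun := fun d => ⟨cj g⁻¹ d, hcjZ g⁻¹ d d.2⟩
          left_inv := fun d => Subtype.ext (by
            change cj g⁻¹ (cj g d) = d
            rw [← cj_comp, inv_mul_cancel, cj_one])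
          right_inv := fun d => Subtype.ext (by
            change cj g (cj g⁻¹ d) = d
            rw [← cj_comp, mul_inv_cancel, cj_one])
          map_mul' := fun a b => Subtype.ext (cj_mul g a b) }
      map_one' := MulEquiv.ext fun d => Subtype.ext (cj_one d)
      map_mul' := fun g h => MulEquiv.ext fun d => Subtype.ext (cj_comp g h d) }
  have hα : ∀ g (d : Z1), ((α g d : Z1) : A) = cj g d := fun g d => rfl
  let c' : Z1 →* (Ω → C) :=
    { toFun := fun d => c (ι d)
      map_one' := by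
        change c (ι 1) = 1
        rw [map_one, D.one]
      map_mul' := fun a b => by
        change c (ι (a * b)) = c (ι a) * c (ι b)
        rw [map_mul, D.mul' (hr1 a) (hr1 b)] }
  have hc' : ∀ d : Z1, c' d = c (ι d) := fun d => rfl
  let j : Z1 →* G := ι.comp Z1.subtype
  have hj : ∀ d : Z1, j d = ι d := fun d => rfl
  let N' : Subgroup Z1 := N.comap j
  have h7N : 7 ≤ Fintype.card Ω ∨ ∀ n ∈ N, n ^ 3 = 1 → n = 1 := by
    refine h7.imp id fun h n hn h3 => ?_
    obtain ⟨m, hm, hm'⟩ := h n (D.NK n hn)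
    have h4 := pow_gcd_eq_one.2 ⟨h3, hm'⟩
    rwa [((Nat.Prime.coprime_iff_not_dvd Nat.prime_three).2 hm).gcd_eq_one, pow_one] at h4
  have S : SZ α ρ c' N' Θ := by
    refine ⟨?_, ?_, ?_, ?_, ?_, ?_, D.alt, ?_⟩
    · intro g n hn
      apply Subtype.ext
      apply hι
      rw [hα, hcj, D.N_comm (show ι n ∈ N from hn) g, mul_inv_cancel_right]
    · intro d
      rw [hc']
      constructor
      · intro h
        exact (D.ker _ (hr1 d)).1 fun i => congrFun h i
      · intro h
        funext i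
        exact (D.ker _ (hr1 d)).2 h i
    · intro g d i
      rw [hc', hα, hcj, hc']
      exact D.eqv g _ (hr1 d) i
    · intro d i
      exact d.2.2 i
    · intro d
      exact d.2.1
    · intro i k hik s hs
      obtain ⟨a, ha⟩ := hΘ i0 j0 i k hij0 hik s hs
      refine ⟨⟨a, ?_⟩, ha⟩
      rw [hZ1, ha]
      refine ⟨prod_vec hik s, fun t => ?_⟩
      by_cases hti : t = i
      · subst hti; rw [vec_left]; exact hs
      · by_cases htk : t = k
        · subst htk; rw [vec_right hik]; exact inv_mem hs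
        · rw [vec_other hti htk]; exact one_mem _
    · intro g i k hik hgi hgk d s hd
      apply Subtype.ext
      apply hι
      rw [hα, hcj]
      exact D.loc h5 h7N (hr d) hik hd hgi hgk
  let φ' : N' →* ℂˣ := φ.comp
    { toFun := fun n => ⟨j n, n.2⟩
      map_one' := Subtype.ext (map_one j)
      map_mul' := fun a b => Subtype.ext (map_mul j _ _) }
  obtain ⟨l1, hl1, hinv⟩ := S.exists_lam h5 φ'
  obtain ⟨l, hl⟩ := MonoidHom.domRestrict_surjective ℂ Z1 l1
  have hl' : ∀ d : Z1, l d = l1 d := fun d => DFunLike.congr_fun hl d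
  refine ⟨l, ?_, ?_⟩
  · intro a h
    have haZ : a ∈ Z1 := by
      have h1 : c (ι a) = 1 := by
        funext i
        exact (D.ker _ (hr1 a)).2 h i
      rw [hZ1, h1]
      exact ⟨Finset.prod_const_one, fun i => one_mem _⟩
    have h2 := hl' ⟨a, haZ⟩
    have h3 := hl1 ⟨⟨a, haZ⟩, h⟩
    exact h2.trans h3
  · -- invariance
    have hl1c : ∀ g a, a ∈ Z1 → l (cj g a) = l a := by
      intro g a ha
      have h1 := hinv g ⟨a, ha⟩
      rw [← hl', ← hl'] at h1
      exact h1
    have hmem : ∀ g a, cj g a * a⁻¹ ∈ Z1 := by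
      intro g a
      rw [hZ1]
      have h1 : c (ι (cj g a * a⁻¹)) = fun t => c (ι a) ((ρ g).symm t) * (c (ι a) t)⁻¹ := by
        rw [map_mul, map_inv, hcj, D.mul' (KData.rho_conj g (hr1 a)) (by rw [map_inv, hr1, inv_one]),
          D.conj g (hr1 a), D.inv (hr1 a)]
        rfl
      rw [h1]
      refine ⟨?_, fun t => ?_⟩
      · rw [Finset.prod_mul_distrib, Finset.prod_inv_distrib,
          Equiv.prod_comp (ρ g).symm (fun i => c (ι a) i), mul_inv_cancel]
      · by_cases ht : (ρ g).symm t = t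
        · change c (ι a) ((ρ g).symm t) * (c (ι a) t)⁻¹ ∈ Θ
          rw [ht, mul_inv_cancel]
          exact one_mem _
        · exact havg a _ _ ht
    have key : ∀ g a, l (cj g a) = l a := by
      intro g a
      let F : G → ℂˣ := fun g => l (cj g a * a⁻¹)
      have hFmul : ∀ g h, F (g * h) = F g * F h := by
        intro g h
        change l (cj (g * h) a * a⁻¹) = l (cj g a * a⁻¹) * l (cj h a * a⁻¹)
        rw [← hl1c g _ (hmem h a), ← map_mul]
        congr 1
        have h1 : cj g (cj h a * a⁻¹) * cj g a = cj (g * h) a := by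
          rw [← cj_mul, inv_mul_cancel_right, cj_comp]
        rw [← h1]
        rw [mul_comm (cj g a * a⁻¹), mul_assoc]
      have hFk : ∀ k, ρ k = 1 → F k = 1 := by
        intro k hk
        change l (cj k a * a⁻¹) = 1
        have h1 : cj k a = a := by
          apply hι
          rw [hcj, ← (hr a).2 k hk, mul_inv_cancel_right]
        rw [h1, mul_inv_cancel, map_one]
      have hF1 : ∀ g h, ρ g = ρ h → F g = F h := by
        intro g h hgh
        have h1 : ρ (h⁻¹ * g) = 1 := by rw [map_mul, map_inv, hgh, inv_mul_cancel]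
        have h2 := hFmul h (h⁻¹ * g)
        rwa [mul_inv_cancel_left, hFk _ h1, mul_one] at h2
      have hlift : ∀ σ : alternatingGroup Ω, ∃ g, ρ g = σ :=
        fun σ => D.alt _ (Equiv.Perm.mem_alternatingGroup.1 σ.2)
      choose lift hlift using hlift
      let f : alternatingGroup Ω →* ℂˣ := MonoidHom.mk' (fun σ => F (lift σ)) (by
        intro a b
        change F (lift (a * b)) = F (lift a) * F (lift b)
        rw [← hFmul]
        apply hF1
        rw [map_mul, hlift, hlift, hlift]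
        rfl)
      have h1 := hom_alt_trivial f (Or.inl (by rw [Nat.card_eq_fintype_card]; exact h5))
        ⟨ρ g, Equiv.Perm.mem_alternatingGroup.2 (D.even g)⟩
      have h2 : F g = 1 := by
        rw [hF1 g _ (hlift ⟨ρ g, Equiv.Perm.mem_alternatingGroup.2 (D.even g)⟩).symm]
        exact h1
      have h3 : l (cj g a) * (l a)⁻¹ = 1 := by
        rw [← map_inv, ← map_mul]
        exact h2
      exact mul_inv_eq_one.1 h3
    intro g a b hb
    have h1 : b = cj g a := hι (by rw [hb, hcj])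
    rw [h1, key]

end lam

section ramified

/-- Two irreducible characters which vanish outside the centre and which lie over the same linear character of the
centre are equal. -/
theorem irr_unique {K : Type*} [Group K] [Finite K] {χ χ' : K → ℂ} (hχ : IsIrrCharacter K χ)
    (hχ' : IsIrrCharacter K χ') (l : Subgroup.center K →* ℂˣ)
    (h : ∀ z : Subgroup.center K, χ z = χ 1 * l z) (h' : ∀ z : Subgroup.center K, χ' z = χ' 1 * l z)
    (h0 : ∀ x ∉ Subgroup.center K, χ x = 0) : χ = χ' := by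
  classical
  letI := Fintype.ofFinite K
  letI := Fintype.ofFinite (Subgroup.center K)
  by_contra hne
  have h1 := classInner_irr_ne hχ hχ' hne
  rw [classInner_def] at h1
  have hd : χ 1 ≠ 0 := isIrr_apply_one_ne_zero hχ
  have hd' : χ' 1 ≠ 0 := isIrr_apply_one_ne_zero hχ'
  have h2 : ∑ g : K, χ g * (starRingEnd ℂ) (χ' g) =
      (Fintype.card (Subgroup.center K) : ℂ) * (χ 1 * (starRingEnd ℂ) (χ' 1)) := by
    have h3 : ∑ g : K, χ g * (starRingEnd ℂ) (χ' g) =
        ∑ z : Subgroup.center K, χ z * (starRingEnd ℂ) (χ' z) := by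
      refine (Fintype.sum_of_injective (Subtype.val : Subgroup.center K → K)
        Subtype.val_injective _ _ ?_ ?_).symm
      · intro g hg
        have hg' : g ∉ Subgroup.center K := fun h => hg ⟨⟨g, h⟩, rfl⟩
        rw [h0 g hg', zero_mul]
      · intro z
        rfl
    rw [h3]
    have h4 : ∀ z : Subgroup.center K, χ z * (starRingEnd ℂ) (χ' z) = χ 1 * (starRingEnd ℂ) (χ' 1) := by
      intro z
      have h5 : (l z : ℂ) * (starRingEnd ℂ) (l z : ℂ) = 1 := by
        rw [Complex.mul_conj, Complex.normSq_eq_norm_sq, Characters.Linear.norm_hom_apply]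
        simp
      rw [h z, h' z, map_mul]
      calc χ 1 * (l z : ℂ) * ((starRingEnd ℂ) (χ' 1) * (starRingEnd ℂ) (l z : ℂ))
          = (χ 1 * (starRingEnd ℂ) (χ' 1)) * ((l z : ℂ) * (starRingEnd ℂ) (l z : ℂ)) := by ring
        _ = _ := by rw [h5, mul_one]
    rw [Finset.sum_congr rfl fun z _ => h4 z, Finset.sum_const, Finset.card_univ, nsmul_eq_mul]
  rw [h2] at h1
  rcases mul_eq_zero.1 h1 with h3 | h3
  · exact inv_ne_zero (Nat.cast_ne_zero.2 Nat.card_pos.ne') h3
  · rcases mul_eq_zero.1 h3 with h4 | h4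
    · exact (Nat.cast_ne_zero.2 (Fintype.card_pos (α := Subgroup.center K)).ne') h4
    · rcases mul_eq_zero.1 h4 with h5 | h5
      · exact hd h5
      · exact hd' ((map_eq_zero _).1 h5)

variable {G Ω C : Type*} [Group G] [Finite G] [Fintype Ω] [DecidableEq Ω] [CommGroup C]
variable {ρ : G →* Equiv.Perm Ω} {c : G → Ω → C} {N : Subgroup G}

/-- **The invariant irreducible character of `ker ρ`.** -/
theorem KData.exists_inv (D : KData ρ c N) (h5 : 5 ≤ Fintype.card Ω)
    (h7 : 7 ≤ Fintype.card Ω ∨ ∀ y, ρ y = 1 → ∃ n, ¬ 3 ∣ n ∧ y ^ n = 1) (φ : N →* ℂˣ)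
    (hφ : Function.Injective φ) :
    ∃ ψ : ρ.ker → ℂ, IsIrrCharacter ρ.ker ψ ∧
      (∀ x : ρ.ker, ∀ h : (x : G) ∈ N, ψ x = ψ 1 * φ ⟨x, h⟩) ∧
      ∀ (g : G) (x y : ρ.ker), (y : G) = g * x * g⁻¹ → ψ y = ψ x := by
  classical
  -- the centre
  have hcen : ∀ x : ρ.ker, x ∈ Subgroup.center ρ.ker ↔ (x : G) ∈ ZK ρ := by
    intro x
    rw [Subgroup.mem_center_iff, mem_ZK]
    constructor
    · intro h
      refine ⟨x.2, fun y hy => ?_⟩
      exact (congrArg Subtype.val (h ⟨y, hy⟩)).symm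
    · intro h y
      apply Subtype.ext
      exact (h.2 y y.2).symm
  let ι : Subgroup.center ρ.ker →* G := ρ.ker.subtype.comp (Subgroup.center ρ.ker).subtype
  have hι : Function.Injective ι := fun a b h => Subtype.ext (Subtype.ext h)
  have hιA : ∀ x, x ∈ ZK ρ ↔ ∃ a, ι a = x := by
    intro x
    constructor
    · intro hx
      exact ⟨⟨⟨x, hx.1⟩, (hcen _).2 hx⟩, rfl⟩
    · rintro ⟨a, rfl⟩
      exact (hcen _).1 a.2
  obtain ⟨l, hl, hinv⟩ : ∃ l : Subgroup.center ρ.ker →* ℂˣ, (∀ a (h : ι a ∈ N), l a = φ ⟨ι a, h⟩) ∧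
      ∀ g a b, ι b = g * ι a * g⁻¹ → l b = l a := by
    letI : CommGroup (Subgroup.center ρ.ker) := { (inferInstance : Group (Subgroup.center ρ.ker)) with
      mul_comm := fun a b => Subtype.ext (Subgroup.mem_center_iff.1 b.2 (a : ρ.ker)) }
    exact D.exists_lam h5 h7 (A := Subgroup.center ρ.ker) ι hι hιA φ
  obtain ⟨ψ, hψ, hov⟩ := exists_over_subtype (Subgroup.center ρ.ker) (isIrr_lf l)
  rw [over_lin_iff _ (fun z => z.2) hψ] at hov
  have hcl := isIrr_isClassFunction hψ
  -- commutators of `ker ρ` are in `N`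
  have hcom : ∀ x y : ρ.ker, ((x * y * x⁻¹ * y⁻¹ : ρ.ker) : G) ∈ N := by
    intro x y
    have hx : ρ (x : G) = 1 := x.2
    have hy : ρ (y : G) = 1 := y.2
    have hx' : ρ (x : G)⁻¹ = 1 := by rw [map_inv, hx, inv_one]
    have hy' : ρ (y : G)⁻¹ = 1 := by rw [map_inv, hy, inv_one]
    have hxy : ρ ((x : G) * y) = 1 := by rw [map_mul, hx, hy, one_mul]
    have hxyx : ρ ((x : G) * y * (x : G)⁻¹) = 1 := by rw [map_mul, hxy, hx', one_mul]
    refine (D.ker _ (x * y * x⁻¹ * y⁻¹ : ρ.ker).2).1 fun i => ?_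
    change c ((x : G) * y * (x : G)⁻¹ * (y : G)⁻¹) i = 1
    rw [D.mul' hxyx hy', D.mul' hxy hx', D.mul' hx hy, D.inv hx, D.inv hy]
    have : c (x : G) * c (y : G) * (c (x : G))⁻¹ * (c (y : G))⁻¹ = 1 := by
      rw [mul_comm (c (x : G)) (c (y : G)), mul_inv_cancel_right, mul_inv_cancel]
    rw [this, Pi.one_apply]
  have hNc : ∀ x : ρ.ker, (x : G) ∈ N → x ∈ Subgroup.center ρ.ker := fun x hx => (hcen x).2 (D.N_le hx)
  have hlN : ∀ (x : ρ.ker) (hx : (x : G) ∈ N), l ⟨x, hNc x hx⟩ = φ ⟨x, hx⟩ := fun x hx => hl _ hx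
  -- multiplicativity on the centre
  have hmul : ∀ (χ : ρ.ker → ℂ), IsIrrCharacter ρ.ker χ → (∀ z : Subgroup.center ρ.ker, χ z = χ 1 * l z) →
      ∀ (x : ρ.ker) (z : Subgroup.center ρ.ker), χ (x * z) = χ x * l z := by
    intro χ hχ h x z
    obtain ⟨c', hc', -⟩ := Cfsg.Agent.CharactersDeep.Extraspecial.exists_central_hom hχ
    have h1 : (c' z : ℂ) = l z := by
      have h2 := hc' 1 z
      rw [one_mul, h z] at h2
      exact (mul_left_cancel₀ (isIrr_apply_one_ne_zero hχ) h2).symm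
    rw [hc' x z, h1]
  have hvan : ∀ x ∉ Subgroup.center ρ.ker, ψ x = 0 := by
    intro x hx
    rw [Subgroup.mem_center_iff] at hx
    push Not at hx
    obtain ⟨y, hy⟩ := hx
    have h1 : y * x * y⁻¹ = x * (x⁻¹ * y * x * y⁻¹) := by group
    have h2 : ((x⁻¹ * y * x * y⁻¹ : ρ.ker) : G) ∈ N := by
      have h3 := hcom x⁻¹ y
      rwa [inv_inv] at h3
    have h3 := hcl x y
    rw [h1, hmul ψ hψ hov x ⟨_, hNc _ h2⟩, hlN _ h2] at h3
    have h4 : ψ x * ((φ ⟨_, h2⟩ : ℂˣ) - 1 : ℂ) = 0 := by rw [mul_sub, h3]; ring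
    rcases mul_eq_zero.1 h4 with h5 | h5
    · exact h5
    · exfalso
      have h6 : φ ⟨_, h2⟩ = 1 := Units.ext (by rw [Units.val_one]; exact sub_eq_zero.1 h5)
      have h7 := hφ (h6.trans (map_one φ).symm)
      have h8 : x⁻¹ * y * x * y⁻¹ = 1 := by
        apply Subtype.ext
        have h9 := congrArg (fun n : N => (n : G)) h7
        exact h9
      apply hy
      calc y * x = x * (x⁻¹ * y * x * y⁻¹) * y := by group
        _ = x * y := by rw [h8, mul_one]
  refine ⟨ψ, hψ, fun x h => ?_, fun g x y hxy => ?_⟩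
  · have h1 := hov ⟨x, hNc x h⟩
    rw [hlN x h] at h1
    exact h1
  · let e : ρ.ker ≃* ρ.ker := MulAut.conjNormal g
    have he : ∀ x : ρ.ker, ((e x : ρ.ker) : G) = g * x * g⁻¹ := fun x => MulAut.conjNormal_apply g x
    have hψe : IsIrrCharacter ρ.ker (ψ ∘ e) := isIrr_comp e.toMonoidHom e.surjective hψ
    have hce : ∀ x : ρ.ker, x ∈ Subgroup.center ρ.ker ↔ e x ∈ Subgroup.center ρ.ker := by
      intro x
      rw [hcen, hcen, he]
      constructor
      · exact conj_mem_ZK g
      · intro h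
        have h1 := conj_mem_ZK g⁻¹ h
        have h2 : g⁻¹ * (g * (x : G) * g⁻¹) * g⁻¹⁻¹ = x := by group
        rwa [h2] at h1
    have h1 : ψ = ψ ∘ e := by
      refine irr_unique hψ hψe l hov ?_ hvan
      intro z
      have h2 : e z ∈ Subgroup.center ρ.ker := (hce _).1 z.2
      have h3 := hov ⟨e z, h2⟩
      have h4 : l ⟨e z, h2⟩ = l z := hinv g z ⟨e z, h2⟩ (he z)
      rw [h4] at h3
      change ψ (e z) = ψ (e 1) * _
      rw [map_one]
      exact h3
    have h2 : y = e x := Subtype.ext (by rw [hxy, he])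
    rw [h2]
    exact (congrFun h1 x).symm

end ramified

end Cfsg.Agent.H880.RIM
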